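import Cfsg.Agent.ExtremelyClosed.FourFactor
import Cfsg.Agent.ZStar.WeaklyClosedCentral
import Cfsg.Agent.ZStar.QDWreathed
import Cfsg.Agent.S3020
import Cfsg.Agent.S3021
import Cfsg.Agent.Eq.Def_SubgroupEmbedding

/-!
# Extremely closed abelian 2-subgroups: local lemmas
-/

set_option autoImplicit false
set_option linter.style.haveILetI false

namespace CfsgLib.ExtremelyClosed

open Cfsg CfsgLib.ZStar

open scoped Pointwise

universe u

variable {G : Type u} [Group G] [Finite G]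

/-- An extremely closed abelian 2-subgroup. -/
structure EC (H : Subgroup G) : Prop where
  isPGroup : IsPGroup 2 H
  comm : IsMulCommutative H
  closed : IsExtremelyClosed H

/-- The conclusion `G = N(H) O(G)`, elementwise. -/
def Concl (H : Subgroup G) : Prop :=
  ∀ g : G, ∃ k ∈ pPrimeCore 2 G, ∃ n ∈ Subgroup.normalizer (H : Set G), g = k * n

theorem mem_normalizer_of_conj_mem {H : Subgroup G} {g : G} (h : ∀ y ∈ H, g * y * g⁻¹ ∈ H) :
    g ∈ Subgroup.normalizer (H : Set G) := by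
  refine Subgroup.mem_normalizer_iff_map_conj_eq.mpr ?_
  refine Subgroup.eq_of_le_of_card_ge ?_ (by rw [Subgroup.card_map_of_injective (MulAut.conj g).injective])
  rintro _ ⟨y, hy, rfl⟩
  exact h y hy

/-- `O(C(v))` inside `G`. -/
abbrev R (v : G) : Subgroup G := coreC 2 (Subgroup.zpowers v)

theorem odd_of_not_two_dvd {n : ℕ} (h : ¬ 2 ∣ n) : Odd n := by
  rw [← Nat.not_even_iff_odd, even_iff_two_dvd]; exact h

theorem odd_card_R (v : G) : Odd (Nat.card (R v)) :=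
  odd_of_not_two_dvd (not_dvd_card_coreC 2 _)

theorem commute_of_mem_R {v r : G} (hr : r ∈ R v) : Commute v r :=
  mem_centralizer_zpowers_iff.mp (coreC_le 2 _ hr)

theorem mem_normalizer_R {v g : G} (h : Commute v g) : g ∈ Subgroup.normalizer (R v : Set G) :=
  mem_normalizer_coreC 2 _
    (Subgroup.centralizer_le_normalizer _ (mem_centralizer_zpowers_iff.mpr h))

theorem conj_mem_R {v r g : G} (h : Commute v g) (hr : r ∈ R v) : g * r * g⁻¹ ∈ R v :=
  (Subgroup.mem_normalizer_iff.mp (mem_normalizer_R h) r).mp hr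

/-- `O(C(v))` moves with `v`. -/
theorem conj_mem_R_conj (g : G) {v r : G} (hr : r ∈ R v) : g * r * g⁻¹ ∈ R (g * v * g⁻¹) := by
  set C := Subgroup.centralizer (Subgroup.zpowers v : Set G)
  set C' := Subgroup.centralizer (Subgroup.zpowers (g * v * g⁻¹) : Set G)
  have hiff : ∀ c : G, c ∈ C ↔ g * c * g⁻¹ ∈ C' := fun c => by
    rw [mem_centralizer_zpowers_iff, mem_centralizer_zpowers_iff]
    exact (Commute.conj_iff g).symm
  let e : C ≃* C' :=
    { toFun := fun c => ⟨g * c * g⁻¹, (hiff c).mp c.2⟩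
      invFun := fun c => ⟨g⁻¹ * c * g, (hiff _).mpr (by simp [mul_assoc])⟩
      left_inv := fun c => Subtype.ext (by simp [mul_assoc])
      right_inv := fun c => Subtype.ext (by simp [mul_assoc])
      map_mul' := fun x y => Subtype.ext (by simp [mul_assoc]) }
  obtain ⟨c, hc, rfl⟩ := hr
  refine ⟨e c, ?_, rfl⟩
  rw [← Constrained.pPrimeCore_map e 2]
  exact ⟨c, hc, rfl⟩

/-- A 2-element congruent to an element of odd order modulo a normalized odd subgroup is trivial. -/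
theorem eq_one_of_mul_odd {K : Subgroup G} (hK : Odd (Nat.card K)) {r h : G} (hr : r ∈ K)
    (hh : h ∈ Subgroup.normalizer (K : Set G)) (h2 : ∃ j : ℕ, orderOf h = 2 ^ j)
    (hodd : Odd (orderOf (r * h))) : h = 1 := by
  have key : ∀ m : ℕ, ∃ s ∈ K, (r * h) ^ m = s * h ^ m := by
    intro m
    induction m with
    | zero => exact ⟨1, one_mem K, by simp⟩
    | succ m ih =>
      obtain ⟨s, hs, he⟩ := ih
      refine ⟨r * (h * s * h⁻¹), mul_mem hr ((Subgroup.mem_normalizer_iff.mp hh s).mp hs), ?_⟩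
      rw [pow_succ', he, pow_succ']
      group
  obtain ⟨s, hs, he⟩ := key (orderOf (r * h))
  rw [pow_orderOf_eq_one] at he
  set m := orderOf (r * h)
  have hm : h ^ m ∈ K := by rw [eq_inv_of_mul_eq_one_right he.symm]; exact inv_mem hs
  obtain ⟨j, hj⟩ := h2
  have hcop : Nat.Coprime m (orderOf h) := by
    rw [hj]; exact (Nat.coprime_two_right.mpr hodd).pow_right j
  have h1 : orderOf (h ^ m) = orderOf h := (Nat.Coprime.symm hcop).orderOf_pow
  have h3 : Odd (orderOf h) := h1 ▸ orderOf_odd hK hm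
  rw [hj] at h3
  have hj0 : j = 0 := by
    by_contra hne
    exact Nat.not_even_iff_odd.mpr h3 (Nat.even_pow.mpr ⟨even_two, hne⟩)
  rw [hj0, pow_zero, orderOf_eq_one_iff] at hj
  exact hj

namespace EC

variable {H : Subgroup G} (h : EC H)

include h

theorem commute {x y : G} (hx : x ∈ H) (hy : y ∈ H) : Commute x y :=
  congrArg Subtype.val (h.comm.is_comm.comm (⟨x, hx⟩ : H) ⟨y, hy⟩)

theorem exists_orderOf {x : G} (hx : x ∈ H) : ∃ j : ℕ, orderOf x = 2 ^ j := by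
  obtain ⟨j, hj⟩ := IsPGroup.iff_orderOf.mp h.isPGroup ⟨x, hx⟩
  exact ⟨j, by rwa [Subgroup.orderOf_mk] at hj⟩

/-- Strong closure in the normalizer. -/
theorem mem_of_conj {x g : G} (hx : x ∈ H)
    (hg : g * x * g⁻¹ ∈ Subgroup.normalizer (H : Set G)) : g * x * g⁻¹ ∈ H := by
  have h1 : g * x * g⁻¹ ∈
      (H ⊔ H.map (MulAut.conj g).toMonoidHom) ⊓ Subgroup.normalizer (H : Set G) :=
    Subgroup.mem_inf.mpr ⟨Subgroup.mem_sup_right ⟨x, hx, rfl⟩, hg⟩
  rwa [h.closed g] at h1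

theorem le_normalizer_of_two_group {Q : Subgroup G} (hQ : IsPGroup 2 Q) (hHQ : H ≤ Q) :
    Q ≤ Subgroup.normalizer (H : Set G) :=
  Subgroup.le_normalizer.trans ((Cfsg.Agent.S3021.result H h.isPGroup h.closed).1 Q hQ hHQ)

/-- The structure of `⟨H, H^g⟩`. -/
theorem exists_core (g : G) : ∃ K : Subgroup G, Odd (Nat.card K) ∧
    (∀ t ∈ H ⊔ H.map (MulAut.conj g).toMonoidHom, ∀ k ∈ K, t * k * t⁻¹ ∈ K) ∧
    (∀ t ∈ H ⊔ H.map (MulAut.conj g).toMonoidHom, Odd (orderOf t) → t ∈ K) ∧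
    ∃ k ∈ K, k * g ∈ Subgroup.normalizer (H : Set G) := by
  set T := H ⊔ H.map (MulAut.conj g).toMonoidHom with hT
  obtain ⟨hsup, -⟩ := Cfsg.Agent.S3020.result H h.isPGroup h.comm h.closed g T hT
  set K0 := pPrimeCore 2 T
  set K := K0.map T.subtype with hKdef
  have hKodd : Odd (Nat.card K) := by
    rw [hKdef, Subgroup.card_map_of_injective Subtype.val_injective]
    exact odd_of_not_two_dvd Constrained.pPrimeCore_not_dvd
  have hHT : H ≤ T := le_sup_left
  have hnorm : ∀ t ∈ T, ∀ k ∈ K, t * k * t⁻¹ ∈ K := by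
    rintro t ht _ ⟨k, hk, rfl⟩
    exact ⟨⟨t, ht⟩ * k * ⟨t, ht⟩⁻¹, (inferInstance : K0.Normal).conj_mem k hk _, rfl⟩
  have hdec : ∀ t ∈ T, ∃ k ∈ K, ∃ x ∈ H, t = k * x := by
    intro t ht
    have h1 : (⟨t, ht⟩ : T) ∈ K0 ⊔ H.subgroupOf T := by
      have h2 : (K0 ⊔ H.subgroupOf T).map T.subtype = T := by
        rw [Subgroup.map_sup, Subgroup.map_subgroupOf_eq_of_le hHT, sup_comm]
        exact hsup
      obtain ⟨y, hy, hyt⟩ : t ∈ (K0 ⊔ H.subgroupOf T).map T.subtype := by rw [h2]; exact ht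
      exact (show y = ⟨t, ht⟩ from Subtype.ext hyt) ▸ hy
    obtain ⟨k, hk, x, hx, he⟩ := Subgroup.mem_sup_of_normal_left.mp h1
    exact ⟨k, ⟨k, hk, rfl⟩, x, hx, (congrArg Subtype.val he).symm⟩
  have hNT : ∀ x ∈ H, x ∈ Subgroup.normalizer (K : Set G) := fun x hx =>
    Subgroup.mem_normalizer_iff.mpr fun k => ⟨hnorm x (hHT hx) k, fun hk => by
      simpa [mul_assoc] using hnorm x⁻¹ (inv_mem (hHT hx)) _ hk⟩
  refine ⟨K, hKodd, hnorm, ?_, ?_⟩
  · intro t ht hodd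
    obtain ⟨k, hk, x, hx, rfl⟩ := hdec t ht
    rwa [eq_one_of_mul_odd hKodd hk (hNT x hx) (h.exists_orderOf hx) hodd, mul_one]
  · -- Sylow conjugacy in `T`
    have hgT : H.map (MulAut.conj g).toMonoidHom ≤ T := le_sup_right
    have hp1 : IsPGroup 2 (H.subgroupOf T) :=
      h.isPGroup.of_equiv (Subgroup.subgroupOfEquivOfLe hHT).symm
    have hp2 : IsPGroup 2 ((H.map (MulAut.conj g).toMonoidHom).subgroupOf T) :=
      ((h.isPGroup.map _).of_equiv (Subgroup.subgroupOfEquivOfLe hgT).symm)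
    obtain ⟨P, hP⟩ := hp1.exists_le_sylow
    obtain ⟨P', hP'⟩ := hp2.exists_le_sylow
    obtain ⟨t, ht⟩ := MulAction.exists_smul_eq T P' P
    have hPH : ∀ y : T, y ∈ (P : Subgroup T) → (y : G) ∈ H := by
      intro y hy
      obtain ⟨k, hk, x, hx, he⟩ := hdec y y.2
      have hyx : y * (⟨x, hHT hx⟩ : T)⁻¹ ∈ (P : Subgroup T) := mul_mem hy (inv_mem (hP hx))
      obtain ⟨j, hj⟩ := IsPGroup.iff_orderOf.mp P.2 ⟨_, hyx⟩
      rw [Subgroup.orderOf_mk, ← Subgroup.orderOf_coe] at hj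
      have hkk : ((y * (⟨x, hHT hx⟩ : T)⁻¹ : T) : G) = k := by
        show (y : G) * x⁻¹ = k
        rw [he, mul_inv_cancel_right]
      rw [hkk] at hj
      have hj0 : j = 0 := by
        by_contra hne
        exact Nat.not_even_iff_odd.mpr (hj ▸ orderOf_odd hKodd hk)
          (Nat.even_pow.mpr ⟨even_two, hne⟩)
      rw [hj0, pow_zero, orderOf_eq_one_iff] at hj
      rw [he, hj, one_mul]
      exact hx
    obtain ⟨k, hk, x, hx, htx⟩ := hdec t t.2
    refine ⟨x⁻¹ * k * x, ?_, ?_⟩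
    · simpa using hnorm x⁻¹ (inv_mem (hHT hx)) k hk
    have hmaps : ∀ y ∈ H, (x⁻¹ * k * x * g) * y * (x⁻¹ * k * x * g)⁻¹ ∈ H := by
      intro y hy
      have h1 : (⟨g * y * g⁻¹, hgT ⟨y, hy, rfl⟩⟩ : T) ∈ (P' : Subgroup T) :=
        hP' ⟨y, hy, rfl⟩
      have h2 : (t : G) * (g * y * g⁻¹) * (t : G)⁻¹ ∈ H := by
        refine hPH (t * ⟨g * y * g⁻¹, hgT ⟨y, hy, rfl⟩⟩ * t⁻¹) ?_
        rw [← ht]
        exact ⟨_, h1, rfl⟩
      have h3 := mul_mem (mul_mem (inv_mem hx) h2) hx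
      rw [htx] at h3
      simpa [mul_assoc] using h3
    exact mem_normalizer_of_conj_mem hmaps

/-- The structure of `⟨H^x, H^y⟩`. -/
theorem exists_core₂ (x y : G) : ∃ K : Subgroup G, Odd (Nat.card K) ∧
    (∀ t ∈ H.map (MulAut.conj x).toMonoidHom ⊔ H.map (MulAut.conj y).toMonoidHom, ∀ k ∈ K,
      t * k * t⁻¹ ∈ K) ∧
    (∀ t ∈ H.map (MulAut.conj x).toMonoidHom ⊔ H.map (MulAut.conj y).toMonoidHom,
      Odd (orderOf t) → t ∈ K) := by
  obtain ⟨K, hK, hn, hodd, -⟩ := h.exists_core (x⁻¹ * y)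
  set T := H ⊔ H.map (MulAut.conj (x⁻¹ * y)).toMonoidHom
  have hback : ∀ t ∈ H.map (MulAut.conj x).toMonoidHom ⊔ H.map (MulAut.conj y).toMonoidHom,
      x⁻¹ * t * x ∈ T := by
    intro t ht
    have h1 : (H.map (MulAut.conj x).toMonoidHom ⊔ H.map (MulAut.conj y).toMonoidHom) ≤
        T.map (MulAut.conj x).toMonoidHom := by
      refine sup_le (Subgroup.map_mono le_sup_left) ?_
      rintro _ ⟨s, hs, rfl⟩
      exact ⟨x⁻¹ * y * s * (x⁻¹ * y)⁻¹, Subgroup.mem_sup_right ⟨s, hs, rfl⟩, by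
        simp [MulAut.conj_apply, mul_assoc]⟩
    obtain ⟨s, hs, rfl⟩ := h1 ht
    simpa [MulAut.conj_apply, mul_assoc] using hs
  refine ⟨K.map (MulAut.conj x).toMonoidHom, ?_, ?_, ?_⟩
  · rwa [Subgroup.card_map_of_injective (MulAut.conj x).injective]
  · rintro t ht _ ⟨k, hk, rfl⟩
    refine ⟨x⁻¹ * t * x * k * (x⁻¹ * t * x)⁻¹, hn _ (hback t ht) k hk, ?_⟩
    simp [MulAut.conj_apply, mul_assoc]
  · intro t ht ho
    refine ⟨x⁻¹ * t * x, hodd _ (hback t ht) ?_, by simp [MulAut.conj_apply, mul_assoc]⟩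
    have := orderOf_injective (MulAut.conj x⁻¹).toMonoidHom (MulAut.conj x⁻¹).injective t
    rw [show (MulAut.conj x⁻¹).toMonoidHom t = x⁻¹ * t * x⁻¹⁻¹ from rfl, inv_inv] at this
    rwa [this]

/-- Subgroups containing `H` inherit the hypothesis. -/
theorem subgroupOf {M : Subgroup G} (hM : H ≤ M) : EC (H.subgroupOf M) := by
  refine ⟨h.isPGroup.of_equiv (Subgroup.subgroupOfEquivOfLe hM).symm, ?_, ?_⟩
  · exact ⟨⟨fun a b => Subtype.ext (Subtype.ext (h.commute a.2 b.2).eq)⟩⟩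
  intro g
  apply Subgroup.map_injective M.subtype_injective
  have hcl := h.closed (g : G)
  rw [Subgroup.map_inf _ _ _ M.subtype_injective, Subgroup.map_sup, Subgroup.map_map,
    Subgroup.map_subgroupOf_eq_of_le hM, ← Subgroup.subgroupOf_normalizer_eq hM,
    Subgroup.subgroupOf_map_subtype,
    show M.subtype.comp (MulAut.conj g).toMonoidHom =
      (MulAut.conj (g : G)).toMonoidHom.comp M.subtype from MonoidHom.ext fun _ => rfl,
    ← Subgroup.map_map, Subgroup.map_subgroupOf_eq_of_le hM, ← inf_assoc, hcl,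
    inf_eq_left]
  exact hM

end EC

end CfsgLib.ExtremelyClosed
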