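import Mathlib

/-!
# A four-group acting on a group of odd order

No solvability is used.

* `exists_split`: under an involution, every element is a fixed element times an inverted one.
* `exists_three_factor`: under a four-group `{1, a, b, ab}` every element is a product of elements
  fixed by `a`, by `b` and by `ab`, in this order.
-/

set_option autoImplicit false

namespace CfsgLib.ExtremelyClosed

variable {G : Type*} [Group G]

/-- The square root of an element of odd order. -/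
noncomputable def half (x : G) : G := x ^ ((orderOf x + 1) / 2)

theorem half_mul_half {x : G} (hx : Odd (orderOf x)) : half x * half x = x := by
  obtain ⟨m, hm⟩ := hx
  rw [half, ← pow_add, show (orderOf x + 1) / 2 + (orderOf x + 1) / 2 = orderOf x + 1 by omega,
    pow_succ, pow_orderOf_eq_one, one_mul]

theorem eq_half {x r : G} (hr : Odd (orderOf r)) (h : r * r = x) : r = half x := by
  have hx : orderOf x = orderOf r := by
    rw [← h, ← pow_two, orderOf_pow' r two_ne_zero, Nat.coprime_two_right.mpr hr |>.gcd_eq_one,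
      Nat.div_one]
  obtain ⟨m, hm⟩ := hr
  rw [half, hx, ← h, ← pow_two, ← pow_mul, show 2 * ((orderOf r + 1) / 2) = orderOf r + 1 by omega,
    pow_succ, pow_orderOf_eq_one, one_mul]

theorem half_mem {K : Subgroup G} {x : G} (hx : x ∈ K) : half x ∈ K := pow_mem hx _

theorem half_conj (g x : G) : half (g * x * g⁻¹) = g * half x * g⁻¹ := by
  have h : orderOf (g * x * g⁻¹) = orderOf x :=
    orderOf_injective (MulAut.conj g).toMonoidHom (MulAut.conj g).injective x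
  rw [half, half, h, conj_pow]

theorem half_inv (x : G) : half x⁻¹ = (half x)⁻¹ := by
  rw [half, half, orderOf_inv, inv_pow]

/-- An element of odd order that inverts an element of odd order centralizes it, so it is trivial. -/
theorem eq_one_of_conj_eq_inv {g d : G} (hg : Odd (orderOf g)) (hd : Odd (orderOf d))
    (h : g * d * g⁻¹ = d⁻¹) : d = 1 := by
  have h2 : Commute (g * g) d := by
    refine mul_inv_eq_iff_eq_mul.mp ?_
    calc g * g * d * (g * g)⁻¹ = g * (g * d * g⁻¹) * g⁻¹ := by group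
      _ = d := by rw [h, ← conj_inv, h, inv_inv]
  obtain ⟨m, hm⟩ := hg
  have hgm : (g * g) ^ (m + 1) = g := by
    rw [← pow_two, ← pow_mul, show 2 * (m + 1) = orderOf g + 1 by omega, pow_succ, pow_orderOf_eq_one,
      one_mul]
  have hc : Commute g d := hgm ▸ h2.pow_left (m + 1)
  rw [hc.eq, mul_inv_cancel_right] at h
  have hd2 : d ^ 2 = 1 := by rw [pow_two]; nth_rewrite 1 [h]; exact inv_mul_cancel d
  obtain ⟨j, hj⟩ := hd
  have := pow_orderOf_eq_one d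
  rwa [hj, pow_succ, pow_mul, hd2, one_pow, one_mul] at this

theorem eq_one_of_eq_inv {d : G} (hd : Odd (orderOf d)) (h : d⁻¹ = d) : d = 1 :=
  eq_one_of_conj_eq_inv (g := 1) (by simp) hd (by simp [h])

section Single

variable {K : Subgroup G} {a : G}

theorem orderOf_odd [Finite G] (hK : Odd (Nat.card K)) {x : G} (hx : x ∈ K) : Odd (orderOf x) :=
  hK.of_dvd_nat (Subgroup.orderOf_dvd_natCard K hx)

/-- Conjugation by an involution. -/
theorem conj_conj {a : G} (ha : a * a = 1) (x : G) : a * (a * x * a⁻¹) * a⁻¹ = x := by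
  calc a * (a * x * a⁻¹) * a⁻¹ = (a * a) * x * (a * a)⁻¹ := by group
    _ = x := by rw [ha]; group

/-- Fixed times inverted. -/
theorem exists_split [Finite G] (hK : Odd (Nat.card K)) (ha : a * a = 1)
    (hn : ∀ x ∈ K, a * x * a⁻¹ ∈ K) {x : G} (hx : x ∈ K) :
    ∃ c ∈ K, Commute a c ∧ ∃ i ∈ K, a * i * a⁻¹ = i⁻¹ ∧ x = c * i ∧
      i * i = (a * x * a⁻¹)⁻¹ * x := by
  obtain ⟨y, hy⟩ : ∃ y, y = x⁻¹ * (a * x * a⁻¹) := ⟨_, rfl⟩
  have hyK : y ∈ K := hy ▸ mul_mem (inv_mem hx) (hn x hx)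
  have hay : a * y * a⁻¹ = y⁻¹ := by
    rw [hy, ← conj_mul, conj_conj ha, mul_inv_rev, inv_inv, conj_inv]
  have hhy : half y * half y = y := half_mul_half (orderOf_odd hK hyK)
  have hah : a * half y * a⁻¹ = (half y)⁻¹ := by rw [← half_conj, hay, half_inv]
  refine ⟨x * half y, mul_mem hx (half_mem hyK), ?_, (half y)⁻¹, inv_mem (half_mem hyK), ?_, ?_, ?_⟩
  · refine mul_inv_eq_iff_eq_mul.mp ?_
    rw [← conj_mul, hah, mul_inv_eq_iff_eq_mul, mul_assoc x, hhy, hy, mul_inv_cancel_left]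
  · rw [← conj_inv, hah]
  · rw [mul_inv_cancel_right]
  · rw [← mul_inv_rev, hhy, hy, mul_inv_rev, inv_inv]

/-- Uniqueness of the splitting. -/
theorem split_unique [Finite G] (hK : Odd (Nat.card K)) {c c' i i' : G}
    (hc : c ∈ K) (hc' : c' ∈ K) (hi : i ∈ K) (hac : Commute a c) (hac' : Commute a c')
    (hai : a * i * a⁻¹ = i⁻¹) (hai' : a * i' * a⁻¹ = i'⁻¹) (h : c * i = c' * i') :
    c = c' ∧ i = i' := by
  set d := c'⁻¹ * c with hd
  have hdi : d * i = i' := by rw [hd, mul_assoc, h, inv_mul_cancel_left]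
  have hda : a * d * a⁻¹ = d :=
    mul_inv_eq_iff_eq_mul.mpr ((hac'.inv_right).mul_right hac).eq
  have h1 : d * i⁻¹ = i⁻¹ * d⁻¹ := by
    rw [← mul_inv_rev, hdi, ← hai', ← hdi, ← conj_mul, hda, hai]
  have h2 : i * d * i⁻¹ = d⁻¹ := by rw [mul_assoc, h1, mul_inv_cancel_left]
  have hd1 : d = 1 := eq_one_of_conj_eq_inv (orderOf_odd hK hi)
    (orderOf_odd hK (mul_mem (inv_mem hc') hc)) h2
  exact ⟨(inv_mul_eq_one.mp hd1).symm, by rw [← hdi, hd1, one_mul]⟩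

end Single

variable {K : Subgroup G} {a b : G}

/-- Every element inverted by `a` is `q * p * q` with `p` fixed by `b` and `q` inverted by `b`. -/
theorem exists_sandwich [Finite G] (hK : Odd (Nat.card K)) (hab : Commute a b) (hb : b * b = 1)
    (hna : ∀ x ∈ K, a * x * a⁻¹ ∈ K)
    (hnb : ∀ x ∈ K, b * x * b⁻¹ ∈ K) {i : G} (hi : i ∈ K) (hai : a * i * a⁻¹ = i⁻¹) :
    ∃ q ∈ K, ∃ p ∈ K, a * q * a⁻¹ = q⁻¹ ∧ b * q * b⁻¹ = q⁻¹ ∧ a * p * a⁻¹ = p⁻¹ ∧ Commute b p ∧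
      i = q * p * q := by
  obtain ⟨j, hj⟩ : ∃ j, j = b * i * b⁻¹ := ⟨_, rfl⟩
  have hjK : j ∈ K := hj ▸ hnb i hi
  have haj : a * j * a⁻¹ = j⁻¹ := by
    rw [hj, show a * (b * i * b⁻¹) * a⁻¹ = (a * b) * i * (a * b)⁻¹ by group, hab.eq,
      show b * a * i * (b * a)⁻¹ = b * (a * i * a⁻¹) * b⁻¹ by group, hai, conj_inv]
  have hbj : b * j * b⁻¹ = i := by rw [hj, conj_conj hb]
  obtain ⟨s, hs⟩ : ∃ s, s = half (i * j) * j⁻¹ := ⟨_, rfl⟩
  have hsK : s ∈ K := hs ▸ mul_mem (half_mem (mul_mem hi hjK)) (inv_mem hjK)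
  have hsol : s * j * s = i := by
    rw [hs, inv_mul_cancel_right, ← mul_assoc, half_mul_half (orderOf_odd hK (mul_mem hi hjK)),
      mul_inv_cancel_right]
  have huniq : ∀ r ∈ K, r * j * r = i → r = s := by
    intro r hr hri
    have h1 : r * j = half (i * j) :=
      eq_half (orderOf_odd hK (mul_mem hr hjK)) (by rw [← mul_assoc, hri])
    rw [hs, ← h1, mul_inv_cancel_right]
  have hbs : b * s * b⁻¹ = s⁻¹ := by
    obtain ⟨r, hr⟩ : ∃ r, r = b * s * b⁻¹ := ⟨_, rfl⟩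
    have h1 : r * i * r = j := by
      rw [hr, hj]
      nth_rewrite 1 [← hbj]
      rw [conj_mul, conj_mul, hsol, ← hj]
    have h2 : r⁻¹ * j * r⁻¹ = i := by rw [← h1]; group
    rw [← hr, ← huniq r⁻¹ (inv_mem (hr ▸ hnb s hsK)) h2, inv_inv]
  have has : a * s * a⁻¹ = s⁻¹ := by
    obtain ⟨r, hr⟩ : ∃ r, r = a * s * a⁻¹ := ⟨_, rfl⟩
    have h1 : r * j⁻¹ * r = i⁻¹ := by
      rw [hr, ← haj, ← hai, conj_mul, conj_mul, hsol]
    have h2 : r⁻¹ * j * r⁻¹ = i := by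
      have := congrArg (·⁻¹) h1
      simpa [mul_assoc] using this
    have hrK : r ∈ K := hr ▸ hna s hsK
    rw [← hr, ← huniq r⁻¹ (inv_mem hrK) h2, inv_inv]
  set q := half s with hq
  have hqK : q ∈ K := half_mem hsK
  have hqq : q * q = s := half_mul_half (orderOf_odd hK hsK)
  have haq : a * q * a⁻¹ = q⁻¹ := by rw [hq, ← half_conj, has, half_inv]
  have hbq : b * q * b⁻¹ = q⁻¹ := by rw [hq, ← half_conj, hbs, half_inv]
  refine ⟨q, hqK, q⁻¹ * i * q⁻¹, mul_mem (mul_mem (inv_mem hqK) hi) (inv_mem hqK), haq, hbq,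
    ?_, ?_, by group⟩
  · rw [← conj_mul, ← conj_mul, ← conj_inv, haq, hai]; group
  · refine mul_inv_eq_iff_eq_mul.mp ?_
    rw [← conj_mul, ← conj_mul, ← conj_inv, hbq, inv_inv, ← hj, ← hsol, ← hqq]
    group

/-- **Three factors.** -/
theorem exists_three_factor [Finite G] (hK : Odd (Nat.card K)) (hab : Commute a b)
    (ha : a * a = 1) (hb : b * b = 1) (hna : ∀ x ∈ K, a * x * a⁻¹ ∈ K)
    (hnb : ∀ x ∈ K, b * x * b⁻¹ ∈ K) {x : G} (hx : x ∈ K) :
    ∃ x₁ ∈ K, Commute a x₁ ∧ ∃ x₂ ∈ K, Commute b x₂ ∧ ∃ x₃ ∈ K, Commute (a * b) x₃ ∧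
      x = x₁ * x₂ * x₃ := by
  classical
  haveI := Fintype.ofFinite G
  let Ca : Finset G := Finset.univ.filter fun c => c ∈ K ∧ Commute a c
  let Jb : Finset G := Finset.univ.filter fun p => p ∈ K ∧ a * p * a⁻¹ = p⁻¹ ∧ Commute b p
  let Jc : Finset G := Finset.univ.filter fun q => q ∈ K ∧ a * q * a⁻¹ = q⁻¹ ∧ b * q * b⁻¹ = q⁻¹
  let KF : Finset G := Finset.univ.filter fun y => y ∈ K
  have hc_of : ∀ {q : G}, a * q * a⁻¹ = q⁻¹ → b * q * b⁻¹ = q⁻¹ → Commute (a * b) q := by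
    intro q h1 h2
    refine mul_inv_eq_iff_eq_mul.mp ?_
    rw [show a * b * q * (a * b)⁻¹ = a * (b * q * b⁻¹) * a⁻¹ by group, h2, ← conj_inv, h1, inv_inv]
  -- `K` has at most as many elements as the triples
  have hcard : KF.card ≤ (Ca ×ˢ (Jb ×ˢ Jc)).card := by
    let f : G × (G × G) → G := fun t => t.1 * (t.2.2 * t.2.1 * t.2.2)
    refine le_trans (Finset.card_le_card ?_) (Finset.card_image_le (f := f))
    intro y hy
    have hyK := (Finset.mem_filter.mp hy).2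
    obtain ⟨c, hc, hac, i, hi, hai, hyci, -⟩ := exists_split hK ha hna hyK
    obtain ⟨q, hq, p, hp, haq, hbq, hap, hbp, hiqp⟩ := exists_sandwich hK hab hb hna hnb hi hai
    refine Finset.mem_image.mpr ⟨(c, p, q), ?_, ?_⟩
    · simp [Ca, Jb, Jc, hc, hac, hq, haq, hbq, hp, hap, hbp]
    · simp only [f]; rw [hyci, hiqp]
  -- the product map is injective on triples
  let F : G × (G × G) → G := fun t => t.1 * t.2.1 * t.2.2
  have hmaps : ∀ t ∈ Ca ×ˢ (Jb ×ˢ Jc), F t ∈ KF := by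
    rintro ⟨c, p, q⟩ ht
    simp only [Ca, Jb, Jc, Finset.mem_product, Finset.mem_filter, Finset.mem_univ, true_and] at ht
    simp only [KF, F, Finset.mem_filter, Finset.mem_univ, true_and]
    exact mul_mem (mul_mem ht.1.1 ht.2.1.1) ht.2.2.1
  have hinj : Set.InjOn F (Ca ×ˢ (Jb ×ˢ Jc) : Finset _) := by
    rintro ⟨c₁, p₁, q₁⟩ h₁ ⟨c₂, p₂, q₂⟩ h₂ he
    simp only [Ca, Jb, Jc, Finset.mem_coe, Finset.mem_product, Finset.mem_filter, Finset.mem_univ,
      true_and] at h₁ h₂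
    obtain ⟨⟨hc₁, hac₁⟩, ⟨hp₁, hap₁, hbp₁⟩, ⟨hq₁, haq₁, hbq₁⟩⟩ := h₁
    obtain ⟨⟨hc₂, hac₂⟩, ⟨hp₂, hap₂, hbp₂⟩, ⟨hq₂, haq₂, hbq₂⟩⟩ := h₂
    simp only [F] at he
    set A := c₂⁻¹ * c₁ with hA
    set P := p₂⁻¹ * A * p₁ with hP
    have hPq : P = q₂ * q₁⁻¹ := by
      rw [hP, hA]
      calc p₂⁻¹ * (c₂⁻¹ * c₁) * p₁ = p₂⁻¹ * c₂⁻¹ * (c₁ * p₁ * q₁) * q₁⁻¹ := by group
        _ = q₂ * q₁⁻¹ := by rw [he]; group
    have hAK : A ∈ K := mul_mem (inv_mem hc₂) hc₁
    have hPK : P ∈ K := hPq ▸ mul_mem hq₂ (inv_mem hq₁)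
    have haA : Commute a A := hac₂.inv_right.mul_right hac₁
    have hcP : Commute (a * b) P := hPq ▸ (hc_of haq₂ hbq₂).mul_right (hc_of haq₁ hbq₁).inv_right
    have hAP : A * p₁ = p₂ * P := by rw [hP]; group
    have hb1 : b * A * b⁻¹ * p₁ = p₂ * (b * P * b⁻¹) := by
      have := congrArg (fun z => b * z * b⁻¹) hAP
      simp only [← conj_mul] at this
      rwa [mul_inv_eq_iff_eq_mul.mpr hbp₁.eq, mul_inv_eq_iff_eq_mul.mpr hbp₂.eq] at this
    have hbP : b * P * b⁻¹ = a * P * a⁻¹ := by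
      have h1 : a * b * P * (a * b)⁻¹ = P := mul_inv_eq_iff_eq_mul.mpr hcP.eq
      calc b * P * b⁻¹ = a * (a * (b * P * b⁻¹) * a⁻¹) * a⁻¹ := (conj_conj ha _).symm
        _ = a * (a * b * P * (a * b)⁻¹) * a⁻¹ := by group
        _ = a * P * a⁻¹ := by rw [h1]
    set u := b * A * b⁻¹ * A⁻¹ with hu
    set u' := (a * P * a⁻¹) * P⁻¹ with hu'
    have huu : u = p₂ * u' * p₂⁻¹ := by
      calc u = (b * A * b⁻¹ * p₁) * (A * p₁)⁻¹ := by rw [hu]; group
        _ = p₂ * u' * p₂⁻¹ := by rw [hb1, hAP, hbP, hu']; group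
    have hau : a * u * a⁻¹ = u := by
      refine mul_inv_eq_iff_eq_mul.mpr ?_
      refine Commute.eq ?_
      refine Commute.mul_right ?_ haA.inv_right
      refine mul_inv_eq_iff_eq_mul.mp ?_
      calc a * (b * A * b⁻¹) * a⁻¹ = (a * b) * A * (a * b)⁻¹ := by group
        _ = b * (a * A * a⁻¹) * b⁻¹ := by rw [hab.eq]; group
        _ = b * A * b⁻¹ := by rw [mul_inv_eq_iff_eq_mul.mpr haA.eq]
    have hau' : a * u' * a⁻¹ = u'⁻¹ := by
      calc a * u' * a⁻¹ = (a * (a * P * a⁻¹) * a⁻¹) * (a * P⁻¹ * a⁻¹) := by rw [hu']; group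
        _ = P * (a * P⁻¹ * a⁻¹) := by rw [conj_conj ha]
        _ = u'⁻¹ := by rw [hu']; group
    have hu'1 : u' = 1 := by
      have hu'K : u' ∈ K := mul_mem (hna P hPK) (inv_mem hPK)
      refine eq_one_of_conj_eq_inv (g := p₂ * p₂) (orderOf_odd hK (mul_mem hp₂ hp₂))
        (orderOf_odd hK hu'K) ?_
      have h1 := hau
      rw [huu, ← conj_mul, ← conj_mul, ← conj_inv, hap₂, hau', inv_inv] at h1
      have h2 : p₂ * p₂ * u' * (p₂ * p₂)⁻¹ = u'⁻¹ := by
        calc p₂ * p₂ * u' * (p₂ * p₂)⁻¹ = p₂ * (p₂ * u' * p₂⁻¹) * p₂⁻¹ := by group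
          _ = p₂ * (p₂⁻¹ * u'⁻¹ * p₂) * p₂⁻¹ := by rw [← h1]
          _ = u'⁻¹ := by group
      exact h2
    have hbA : Commute b A := by
      have h1 : u = 1 := by rw [huu, hu'1]; group
      rw [hu, mul_inv_eq_one] at h1
      exact mul_inv_eq_iff_eq_mul.mp h1
    have haP : Commute a P := by
      rw [hu', mul_inv_eq_one] at hu'1
      exact mul_inv_eq_iff_eq_mul.mp hu'1
    have hbP' : Commute b P := by
      refine mul_inv_eq_iff_eq_mul.mp ?_
      rw [hbP, mul_inv_eq_iff_eq_mul.mpr haP.eq]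
    have hsp := split_unique (c := A) (c' := P) (i := p₁) (i' := P⁻¹ * p₂ * P) hK hAK hPK hp₁ haA
      haP hap₁ (by
        rw [← conj_mul, ← conj_mul, ← conj_inv, mul_inv_eq_iff_eq_mul.mpr haP.eq, hap₂]; group)
      (by rw [hAP]; group)
    have hq := split_unique (c := P) (c' := 1) (i := q₁) (i' := q₂) hK hPK (one_mem K) hq₁ haP
      (Commute.one_right a) haq₁ haq₂ (by rw [hPq]; group)
    have hA1 : A = 1 := hsp.1.trans hq.1
    have e1 : c₁ = c₂ := (inv_mul_eq_one.mp (hA ▸ hA1)).symm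
    have e2 : p₁ = p₂ := by rw [hsp.2, hq.1]; group
    rw [e1, e2, hq.2]
  have hsurj : (Ca ×ˢ (Jb ×ˢ Jc)).image F = KF := by
    refine Finset.eq_of_subset_of_card_le (Finset.image_subset_iff.mpr hmaps) ?_
    rwa [Finset.card_image_of_injOn hinj]
  have hxKF : x ∈ (Ca ×ˢ (Jb ×ˢ Jc)).image F := by rw [hsurj]; simp [KF, hx]
  obtain ⟨⟨c, p, q⟩, ht, rfl⟩ := Finset.mem_image.mp hxKF
  simp only [Ca, Jb, Jc, Finset.mem_product, Finset.mem_filter, Finset.mem_univ, true_and] at ht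
  obtain ⟨⟨hc, hac⟩, ⟨hp, -, hbp⟩, ⟨hq, haq, hbq⟩⟩ := ht
  exact ⟨c, hc, hac, p, hp, hbp, q, hq, hc_of haq hbq, rfl⟩

end CfsgLib.ExtremelyClosed
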